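import Cfsg.Agent.Fi23Out54.Checks
import Cfsg.Agent.Fi22Out.OuterChecks

/-! Kernel checks: the suborbit of 3510 points and the possible images of the letters. -/

set_option autoImplicit false
set_option maxRecDepth 100000
set_option Elab.async false

namespace CfsgLib.Fi23Out54

open CfsgLib.CosetEnum CfsgLib.CosetEnum.Fi23

theorem emb_lab : (allBelow (fun i => Nat.beq (Tab.labH (Tab.emb i)) 2) 3510 &&
    Nat.beq (gP 0) (Tab.emb 0)) = true := by
  decide +kernel

theorem emb_adj : (allBelow (fun j => adjW (gW 0) (Tab.emb j) ==
    (Nat.beq (Fi22Out.tb 0 j) j && !(Nat.beq j 0))) 3510) = true := by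
  decide +kernel

/-- the point of Fi22 of a letter -/
noncomputable def ep (x : ℕ) : ℕ := Tab.embInv (gP x)

theorem dia_points : (allBelow (fun x => (ep x).blt 3510 && Nat.beq (Tab.emb (ep x)) (gP x) &&
    Nat.beq (Tab.emb (Fi22Out.Data.outer (ep x))) (gP (Fi22Out.dia x))) 9) = true := by
  decide +kernel

/-- the relator that the diagram symmetry does not keep -/
def relW : List ℕ := (List.replicate 9 [0, 1, 2, 3, 4, 5, 7]).flatten

theorem rel_check : (Tab.relWords.contains relW && relW.all (fun x => x.blt 9) &&
    !(basePts.all (fun i => Nat.beq (act (relW.map Fi22Out.dia) i) i))) = true := by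
  decide +kernel

/-- the point is fixed by the letters other than the seventh, which moves it -/
noncomputable def likeLast (q : ℕ) : Bool :=
  Nat.beq (Tab.labH q) 1 &&
    allBelow (fun x => (Nat.beq (act [x] q) q) == !(Nat.beq x 6)) 9

theorem last_check : (allBelow (fun q => !(likeLast q) || Nat.beq q 7999 || Nat.beq q 1) 31671 &&
    likeLast 7999 && Nat.beq (gP 9) 7999 && Nat.beq (act zW 7999) 1) = true := by
  decide +kernel

end CfsgLib.Fi23Out54
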