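import Cfsg.Agent.Fi23Out54.Centralizer
import Cfsg.Agent.Fi23Out54.MainChecks
import Cfsg.Agent.Fi22Out.Main

/-!
Every automorphism of Fi23 is inner: it permutes the 31671 transpositions; after an inner
automorphism it fixes `z0`, so it acts on the 3510 commuting ones as a symmetry of the graph of
Fi22, and the diagram symmetry of Fi22 does not extend.
-/

set_option autoImplicit false
set_option maxRecDepth 100000

namespace CfsgLib.Fi23Out54

open CfsgLib.CosetEnum CfsgLib.CosetEnum.Fi23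

/-- a point of Fi22 -/
abbrev Pt22 : Type := Fin Fi22.Tab.perm.n

/-! ### The symmetries of the graph of Fi22 -/

theorem outerHom_injective : Function.Injective Fi22Out.outerHom := fun u v h =>
  Fi22.pi_injective ((MulAut.conj Fi22Out.outerPerm).injective
    (by rw [← Fi22Out.pi_outerHom, ← Fi22Out.pi_outerHom, h]))

theorem outerHom_gen {x : ℕ} (hx : x < 9) :
    Fi22Out.outerHom (Fi22.gen x) = Fi22.gen (Fi22Out.dia x) := by
  rw [Fi22.gen, Fi22Out.outerHom, PresentedGroup.toGroup.of]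
  exact congrArg (fun y => Fi22.gen (Fi22Out.dia y))
    (show Fi22.enc (Fi22.dec x) = x by interval_cases x <;> rfl)

theorem pi22_outer (g : Cfsg.Spor.Fi22) (i : Pt22) :
    Fi22.pi (Fi22Out.outerHom g) (Fi22Out.outerPerm i) = Fi22Out.outerPerm (Fi22.pi g i) := by
  rw [Fi22Out.pi_outerHom, MulAut.conj_apply, Equiv.Perm.mul_apply, Equiv.Perm.mul_apply,
    Equiv.Perm.coe_inv, Equiv.symm_apply_apply]

theorem outer_tran_zero :
    Fi22Out.outerHom Fi22Out.a0 = Fi22Out.tran (Fi22Out.outerPerm Fi22.P0) := by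
  obtain ⟨q, hq⟩ := Fi22Out.gen_eq_tran (Fi22Out.dia_lt (x := 0) (by norm_num))
  rw [Fi22Out.a0, outerHom_gen (by norm_num), hq]
  refine congrArg Fi22Out.tran ?_
  obtain ⟨k, rfl⟩ : ∃ k, Fi22Out.outerPerm k = q := ⟨_, Equiv.apply_symm_apply _ q⟩
  refine congrArg _ (Fin.ext ?_)
  by_contra hne
  have hk := (Model.allBelow_iff _ _).1 Fi22Out.wordsH_move k k.2
  simp only [Bool.or_eq_true, List.any_eq_true, Bool.not_eq_true'] at hk
  rcases hk with hk | ⟨w, hw, hk⟩
  · exact hne (Nat.eq_of_beq_eq_true hk)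
  have hw9 : ∀ x ∈ w, x < 9 := Fi22.small (S := Fi22.Tab.wordsH) (by decide +kernel) w hw
  have hmem : (gword Fi22.g9 w)⁻¹ ∈ Fi22.Hs := inv_mem (Subgroup.subset_closure ⟨w, hw, rfl⟩)
  have hc := (Fi22Out.commute_of_mem_Hs hmem).map Fi22Out.outerHom
  rw [Fi22Out.a0, outerHom_gen (by norm_num), hq, commute_iff_eq, ← mul_inv_eq_iff_eq_mul,
    Fi22Out.tran_conj, Fi22Out.tran_injective.eq_iff, pi22_outer,
    Fi22Out.outerPerm.injective.eq_iff, map_inv, Fi22.pi_gword _ hw9] at hc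
  have e := congrArg Fin.val hc
  rw [Fi22.perm_ok.gword_inv_apply _ hw9] at e
  rw [e, Nat.beq_refl] at hk
  exact Bool.noConfusion hk

theorem outer_tran (p : Pt22) :
    Fi22Out.outerHom (Fi22Out.tran p) = Fi22Out.tran (Fi22Out.outerPerm p) := by
  conv_rhs => rw [← Fi22Out.move_spec p, ← pi22_outer, ← Fi22Out.tran_conj, ← outer_tran_zero]
  rw [Fi22Out.tran, map_mul, map_mul, map_inv]

theorem outer_mem : Fi22Out.outerPerm ∈ Fi22Out.graphAut := by
  intro p q
  rw [Fi22Out.NB, Fi22Out.NB, ← outer_tran, pi22_outer, Fi22Out.outerPerm.injective.eq_iff, Ne,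
    Fi22Out.outerPerm.injective.eq_iff]

theorem range_le : Fi22.pi.range ≤ Fi22Out.graphAut := by
  rintro _ ⟨g, rfl⟩
  exact Fi22Out.nb_conj g

theorem graphAut_cases {r : Equiv.Perm Pt22} (hr : r ∈ Fi22Out.graphAut) :
    ∃ g : Cfsg.Spor.Fi22, r = Fi22.pi g ∨ r = Fi22.pi g * Fi22Out.outerPerm := by
  set R := Fi22.pi.range.subgroupOf Fi22Out.graphAut with hR
  have hcR : Nat.card R = 64561751654400 := by
    rw [hR, Nat.card_congr (Subgroup.subgroupOfEquivOfLe range_le).toEquiv, Fi22.card_range_eq]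
  have ho : (⟨_, outer_mem⟩ : Fi22Out.graphAut) ∉ R := by
    intro h
    obtain ⟨g, hg⟩ := Subgroup.mem_subgroupOf.1 h
    have hs := Fi22Out.sign_pi g
    rw [hg, Fi22Out.sign_outerPerm] at hs
    exact absurd hs (by decide)
  have hidx : R.index = 2 := by
    have h := R.card_mul_index
    have h2 := Fi22Out.card_graphAut
    have h1 : R.index ≠ 1 := fun h => ho (Subgroup.index_eq_one.1 h ▸ Subgroup.mem_top _)
    have h0 : R.index ≠ 0 := Subgroup.index_ne_zero_of_finite
    rw [hcR] at h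
    have : R.index ≤ 2 := Nat.le_of_mul_le_mul_left
      (h.trans_le (h2.trans_eq (by norm_num : (129123503308800 : ℕ) = 64561751654400 * 2)))
      (by norm_num)
    omega
  by_cases hm : (⟨r, hr⟩ : Fi22Out.graphAut) ∈ R
  · obtain ⟨g, hg⟩ := Subgroup.mem_subgroupOf.1 hm
    exact ⟨g, Or.inl hg.symm⟩
  · have := (Subgroup.mul_mem_iff_of_index_two hidx
      (a := (⟨r, hr⟩ : Fi22Out.graphAut)) (b := ⟨_, outer_mem⟩)).2 (iff_of_false hm ho)
    obtain ⟨g, hg⟩ := Subgroup.mem_subgroupOf.1 this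
    refine ⟨g, Or.inr ?_⟩
    rw [hg]
    show r = r * Fi22Out.outerPerm * Fi22Out.outerPerm
    rw [mul_assoc, show Fi22Out.outerPerm * Fi22Out.outerPerm = 1 from
      Equiv.ext fun k => Fin.ext (Fi22Out.outer_spec k).2.1, mul_one]

/-! ### The suborbit -/

theorem lift22 (g : Cfsg.Spor.Fi22) :
    ∃ h ∈ Hs, ∀ i, pi h (emb i) = emb (Fi22.pi g i) := by
  have hm : Fi22.pi g ∈ toSub.range := toSub_range ▸ ⟨g, rfl⟩
  obtain ⟨q, hq⟩ := hm
  have hp : toPts q ∈ Hs.map pi := toPts_range ▸ ⟨q, rfl⟩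
  obtain ⟨h, hh, e⟩ := hp
  refine ⟨h, hh, fun i => ?_⟩
  rw [e, show toPts q = q.1.1 from rfl, induces_of_mem q.2 i, show q.1.2 = toSub q from rfl, hq]

theorem labH_emb (i : Pt22) : Tab.labH (emb i : Pt) = 2 := by
  have h := emb_lab
  simp only [Bool.and_eq_true] at h
  exact Nat.eq_of_beq_eq_true ((Model.allBelow_iff _ _).1 h.1 i i.2)

theorem exists_emb {j : Pt} (hj : Tab.labH j = 2) : ∃ i, j = emb i := by
  obtain ⟨k, hk, e⟩ := exists_Hs_of_label (i := j) (j := emb Fi22.P0) (by rw [hj, labH_emb])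
  have hm : pi k ∈ toPts.range := toPts_range ▸ Subgroup.mem_map_of_mem pi hk
  obtain ⟨q, hq⟩ := hm
  refine ⟨q.1.2 Fi22.P0, ?_⟩
  rw [← induces_of_mem q.2, show q.1.1 = toPts q from rfl, hq, e]

theorem gpt_zero : gpt 0 = emb Fi22.P0 := by
  have h := emb_lab
  simp only [Bool.and_eq_true] at h
  refine Fin.ext ?_
  rw [gpt_val (by norm_num)]
  exact Nat.eq_of_beq_eq_true h.2

theorem adj_emb_zero (j : Pt22) : Adj (emb Fi22.P0) (emb j) ↔ Fi22Out.NB Fi22.P0 j := by
  have hg := (Model.allBelow_iff _ _).1 gen_check 0 (by norm_num)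
  simp only [Bool.and_eq_true] at hg
  rw [← gpt_zero, gpt, ← adjW_pw (of_lt10 hg.1.1.1), Fi22Out.nb_zero]
  show adjW (gW 0) (Tab.emb j) = true ↔ _
  rw [beq_iff_eq.1 ((Model.allBelow_iff _ _).1 emb_adj j j.2), Bool.and_eq_true, Bool.not_eq_true']
  refine and_congr ⟨Nat.eq_of_beq_eq_true, fun h => by rw [h]; exact Nat.beq_refl _⟩
    ⟨fun h e => ?_, fun h => ?_⟩
  · rw [e] at h; simp at h
  · rw [← Bool.not_eq_true]; exact fun e => h (Nat.eq_of_beq_eq_true e)

theorem adj_emb (i j : Pt22) : Adj (emb i) (emb j) ↔ Fi22Out.NB i j := by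
  obtain ⟨h, -, hh⟩ := lift22 (Fi22Out.move i)
  obtain ⟨j', rfl⟩ : ∃ j', Fi22.pi (Fi22Out.move i) j' = j := ⟨_, Equiv.apply_symm_apply _ j⟩
  have e1 : emb i = pi h (emb Fi22.P0) := by rw [hh, Fi22Out.move_spec]
  rw [e1, ← hh j', adj_conj, adj_emb_zero, ← Fi22Out.nb_conj (Fi22Out.move i), Fi22Out.move_spec]

/-! ### The action of an automorphism on the points -/

/-- the action of an automorphism on the points -/
noncomputable def autFun (α : MulAut Cfsg.Spor.Fi23) (p : Pt) : Pt := (exists_aut_tran α p).choose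

theorem autFun_spec (α : MulAut Cfsg.Spor.Fi23) (p : Pt) : α (tran p) = tran (autFun α p) :=
  (exists_aut_tran α p).choose_spec

theorem autFun_injective (α : MulAut Cfsg.Spor.Fi23) : Function.Injective (autFun α) :=
  fun p q h => tran_injective (α.injective (by rw [autFun_spec, autFun_spec, h]))

theorem adj_autFun (α : MulAut Cfsg.Spor.Fi23) (p q : Pt) :
    Adj (autFun α p) (autFun α q) ↔ Adj p q := by
  by_cases e : q = p
  · rw [e]; exact iff_of_false (not_adj_self _) (not_adj_self _)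
  have e' : autFun α q ≠ autFun α p := fun h => e (autFun_injective α h)
  have h1 := commute_tran_iff p q
  have h2 := commute_tran_iff (autFun α p) (autFun α q)
  rw [← autFun_spec, ← autFun_spec, commute_iff_eq, ← map_mul, ← map_mul, α.injective.eq_iff,
    ← commute_iff_eq] at h2
  simp only [e, false_or] at h1
  simp only [e', false_or] at h2
  exact h2.symm.trans h1

theorem lift_aut {σ : MulAut Cfsg.Spor.Fi23} (hσ : σ z0 = z0) : ∃ h ∈ Hs,
    (∀ i, pi h⁻¹ (autFun σ (emb i)) = emb i) ∨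
      ∀ i, pi h⁻¹ (autFun σ (emb i)) = emb (Fi22Out.outerPerm i) := by
  have h0 : autFun σ P0 = P0 := tran_injective (by rw [← autFun_spec, tran_zero, hσ])
  have hex : ∀ i, ∃ j, autFun σ (emb i) = emb j := fun i => exists_emb (by
    rw [← adj_zero, ← h0, adj_autFun, adj_zero]; exact labH_emb i)
  choose r hr using hex
  have hinj : Function.Injective r := fun a b e =>
    emb_injective (autFun_injective σ (by rw [hr, hr, e]))
  let rp : Equiv.Perm Pt22 := Equiv.ofBijective r (Finite.injective_iff_bijective.1 hinj)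
  have hmem : rp ∈ Fi22Out.graphAut := fun a b => by
    show Fi22Out.NB (r a) (r b) ↔ _
    rw [← adj_emb, ← adj_emb, ← hr, ← hr, adj_autFun]
  obtain ⟨g, hg⟩ := graphAut_cases hmem
  obtain ⟨h, hh, hhe⟩ := lift22 g
  refine ⟨h, hh, ?_⟩
  rcases hg with hg | hg <;> [left; right] <;> intro i <;>
    rw [map_inv, Equiv.Perm.inv_eq_iff_eq, hhe, hr, show r i = rp i from rfl, hg] <;> rfl

/-! ### Automorphisms fixing the suborbit -/

theorem ep_spec {x : ℕ} (hx : x < 9) : ∃ i : Pt22, gpt x = emb i ∧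
    gpt (Fi22Out.dia x) = emb (Fi22Out.outerPerm i) := by
  have h := (Model.allBelow_iff _ _).1 dia_points x hx
  simp only [Bool.and_eq_true, Nat.blt, Nat.ble_eq] at h
  refine ⟨⟨ep x, h.1.1⟩, Fin.ext ?_, Fin.ext ?_⟩
  · rw [gpt_val (by omega)]; exact (Nat.eq_of_beq_eq_true h.1.2).symm
  · rw [gpt_val (by have := Fi22Out.dia_lt hx; omega)]
    exact (Nat.eq_of_beq_eq_true h.2).symm

theorem not_dia {σ : MulAut Cfsg.Spor.Fi23}
    (h : ∀ x < 9, σ (gen x) = gen (Fi22Out.dia x)) : False := by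
  have hc := rel_check
  simp only [Bool.and_eq_true, Bool.not_eq_true', List.all_eq_true] at hc
  obtain ⟨⟨hm, hlt⟩, hne⟩ := hc
  have hlt' : ∀ x ∈ relW, x < 9 := fun x hx => by
    have := hlt x hx
    simpa [Nat.blt, Nat.ble_eq] using this
  have hd : ∀ y ∈ relW.map Fi22Out.dia, y < 10 := by
    intro y hy
    obtain ⟨x, hx, rfl⟩ := List.mem_map.1 hy
    have := Fi22Out.dia_lt (hlt' x hx)
    omega
  have e : gword g10 (relW.map Fi22Out.dia) = 1 := by
    have e1 := congrArg σ (gword_relWords _ (List.contains_iff_mem.1 hm))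
    rw [map_one, show σ (gword g10 relW) = σ.toMonoidHom (gword g10 relW) from rfl, gword_map] at e1
    rw [← e1, gword, gword, List.map_map]
    refine congrArg List.prod (List.map_congr_left fun x hx => ?_)
    show g10 (Fi22Out.dia x) = σ (g10 x)
    have := hlt' x hx
    have := Fi22Out.dia_lt (hlt' x hx)
    rw [g10, letterVal_lt gen (by omega), letterVal_lt gen (by omega), h x (hlt' x hx)]
  refine Bool.eq_false_iff.1 hne (List.all_eq_true.2 fun i hi => ?_)
  have hi' : i < 31671 := (show ∀ i ∈ basePts, i < 31671 by decide) i hi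
  have e2 := act_eq _ hd (pt i hi')
  rw [e, inv_one, map_one, Equiv.Perm.one_apply, pt_val] at e2
  rw [← e2]
  exact Nat.beq_refl _

theorem pi_gen_fix {x : ℕ} (hx : x < 10) (p : Pt) :
    pi (gen x) p = p ↔ Nat.beq (act [x] p) p = true := by
  have hv := act_eq [x] (fun y hy => by rw [List.mem_singleton.1 hy]; exact hx) p
  rw [CfsgLib.CosetEnum.Fi23.gword_one, ← g10_inv, g10, letterVal_lt gen hx] at hv
  rw [Fin.ext_iff, hv]
  exact ⟨fun h => by rw [h]; exact Nat.beq_refl _, Nat.eq_of_beq_eq_true⟩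

theorem fix_image {σ : MulAut Cfsg.Spor.Fi23} {g : Cfsg.Spor.Fi23} (hg : σ g = g) (p : Pt) :
    pi g (autFun σ p) = autFun σ p ↔ pi g p = p := by
  rw [← tran_injective.eq_iff, ← tran_conj, ← autFun_spec,
    show g * σ (tran p) * g⁻¹ = σ (g * tran p * g⁻¹) by rw [map_mul, map_mul, map_inv, hg],
    σ.injective.eq_iff, tran_conj, tran_injective.eq_iff]

theorem aut_ext {σ τ : MulAut Cfsg.Spor.Fi23} (h : ∀ x < 10, σ (gen x) = τ (gen x)) : σ = τ := by
  refine MulEquiv.toMonoidHom_injective (PresentedGroup.ext fun a => ?_)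
  have := h (enc a) (enc_lt a)
  rw [gen, dec_enc] at this
  exact this

theorem inner_of_fixed {σ : MulAut Cfsg.Spor.Fi23} (hz : σ z0 = z0)
    (h : ∀ x < 9, σ (gen x) = gen x) : σ ∈ Cfsg.Inn Cfsg.Spor.Fi23 := by
  have hc := last_check
  simp only [Bool.and_eq_true] at hc
  obtain ⟨⟨⟨hall, hlike⟩, h9⟩, hz1⟩ := hc
  have h9v : ((gpt 9 : Pt) : ℕ) = 7999 := by
    rw [gpt_val (by norm_num)]; exact Nat.eq_of_beq_eq_true h9
  rw [likeLast, Bool.and_eq_true, Model.allBelow_iff] at hlike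
  set q := autFun σ (gpt 9) with hq
  have h0 : autFun σ P0 = P0 := tran_injective (by rw [← autFun_spec, tran_zero, hz])
  have hlab : Tab.labH q = 1 := by
    have h1 : Tab.labH (gpt 9 : Pt) = 1 := by rw [h9v]; exact Nat.eq_of_beq_eq_true hlike.1
    rcases labH_cases q with e | e | e
    · exfalso
      have := autFun_injective σ ((show q = P0 from Fin.ext e).trans h0.symm)
      rw [this, pt_val, labH_zero] at h1
      exact absurd h1 (by norm_num)
    · exact e
    · exfalso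
      have := (adj_autFun σ P0 (gpt 9)).1 (by rw [h0, adj_zero]; exact e)
      rw [adj_zero, h1] at this
      exact absurd this (by norm_num)
  have hlq : likeLast q = true := by
    rw [likeLast, Bool.and_eq_true, Model.allBelow_iff]
    refine ⟨by rw [hlab]; rfl, fun x hx => ?_⟩
    have e := hlike.2 x hx
    rw [beq_iff_eq] at e ⊢
    rw [← e, Bool.eq_iff_iff, ← h9v, ← pi_gen_fix (by omega), ← pi_gen_fix (by omega)]
    exact fix_image (h x hx) _
  have hq' := (Model.allBelow_iff _ _).1 hall q q.2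
  rw [hlq] at hq'
  simp only [Bool.not_true, Bool.false_or, Bool.or_eq_true] at hq'
  have hσ9 : σ (gen 9) = tran q := by rw [gen_tran (by norm_num), autFun_spec]
  rcases hq' with e | e
  · have e' : q = gpt 9 := Fin.ext (by rw [h9v]; exact Nat.eq_of_beq_eq_true e)
    rw [show σ = 1 from aut_ext fun x hx => by
      by_cases hx9 : x < 9
      · exact h x hx9
      · rw [show x = 9 by omega, hσ9, e', ← gen_tran (by norm_num)]; rfl]
    exact one_mem _
  · refine ⟨z0, (aut_ext fun x hx => ?_).symm⟩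
    rw [MulAut.conj_apply]
    by_cases hx9 : x < 9
    · rw [h x hx9, commute_of_mem (show gen x ∈ Hs from by
        have := g10_mem_Hs hx9
        rwa [g10, letterVal_lt gen hx] at this), mul_inv_cancel_right]
    · rw [show x = 9 by omega, hσ9, gen_tran (by norm_num), tran_conj]
      refine congrArg tran (Fin.ext ?_)
      rw [← z0_inv, z0, act_eq zW zW_lt10, h9v, Nat.eq_of_beq_eq_true e,
        Nat.eq_of_beq_eq_true hz1]

theorem inner_of_fix_z0 {σ : MulAut Cfsg.Spor.Fi23} (hz : σ z0 = z0) :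
    σ ∈ Cfsg.Inn Cfsg.Spor.Fi23 := by
  obtain ⟨h, hh, hcase⟩ := lift_aut hz
  have hz' : (MulAut.conj h⁻¹ * σ) z0 = z0 := by
    rw [MulAut.mul_apply, MulAut.conj_apply, hz, inv_inv, ← commute_of_mem (inv_mem hh),
      mul_assoc, inv_mul_cancel, mul_one]
  have himg : ∀ p, (MulAut.conj h⁻¹ * σ) (tran p) = tran (pi h⁻¹ (autFun σ p)) := fun p => by
    rw [MulAut.mul_apply, MulAut.conj_apply, autFun_spec, tran_conj]
  have hi : MulAut.conj h⁻¹ * σ ∈ Cfsg.Inn Cfsg.Spor.Fi23 := by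
    rcases hcase with hc | hc
    · refine inner_of_fixed hz' fun x hx => ?_
      obtain ⟨i, hi, -⟩ := ep_spec hx
      rw [gen_tran (by omega), himg, hi, hc]
    · refine (not_dia (σ := MulAut.conj h⁻¹ * σ) fun x hx => ?_).elim
      obtain ⟨i, hi, hi'⟩ := ep_spec hx
      have := Fi22Out.dia_lt hx
      rw [gen_tran (by omega), gen_tran (x := Fi22Out.dia x) (by omega), himg, hi, hc, hi']
  have := mul_mem (⟨h, rfl⟩ : MulAut.conj h ∈ Cfsg.Inn Cfsg.Spor.Fi23) hi
  rwa [← mul_assoc, ← map_mul, mul_inv_cancel, map_one, one_mul] at this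

theorem inner (σ : MulAut Cfsg.Spor.Fi23) : σ ∈ Cfsg.Inn Cfsg.Spor.Fi23 := by
  set g := move (autFun σ P0)
  have h := inner_of_fix_z0 (σ := MulAut.conj g⁻¹ * σ) (by
    rw [MulAut.mul_apply, MulAut.conj_apply, ← tran_zero, autFun_spec, tran_conj, map_inv]
    exact congrArg tran (Equiv.Perm.inv_eq_iff_eq.2 (move_spec _).symm))
  have := mul_mem (⟨g, rfl⟩ : MulAut.conj g ∈ Cfsg.Inn Cfsg.Spor.Fi23) h
  rwa [← mul_assoc, ← map_mul, mul_inv_cancel, map_one, one_mul] at this

theorem card_out : Nat.card (Cfsg.Out Cfsg.Spor.Fi23) = 1 := by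
  rw [← Subgroup.index_eq_card, Subgroup.index_eq_one]
  exact eq_top_iff.2 fun σ _ => inner σ

end CfsgLib.Fi23Out54
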