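import Cfsg.Agent.Fi23Out54.Witness.Orbits0
import Cfsg.Agent.Fi23Out54.Witness.Orbits1
import Cfsg.Agent.Fi23Out54.Witness.ScanB
import Cfsg.Agent.Fi23Out54.Witness.Stage1
import Cfsg.Agent.Fi23Out54.Witness.Stage2a
import Cfsg.Agent.Fi23Out54.Witness.Stage2b

/-! The checks of the witnesses and of the stages, put together. -/

set_option autoImplicit false
set_option maxRecDepth 100000

namespace CfsgLib.Fi23Out54

open CfsgLib.CosetEnum CfsgLib.CosetEnum.Fi23

theorem witnesses (c : ℕ) (h1 : 1 ≤ c) (h27 : c < 27) : witOK c = true := by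
  by_cases c0 : c < 5
  · exact allFrom_spec _ _ _ witnesses0 c (by omega) (by omega)
  by_cases c1 : c < 9
  · exact allFrom_spec _ _ _ witnesses1 c (by omega) (by omega)
  by_cases c2 : c < 13
  · exact allFrom_spec _ _ _ witnesses2 c (by omega) (by omega)
  by_cases c3 : c < 17
  · exact allFrom_spec _ _ _ witnesses3 c (by omega) (by omega)
  by_cases c4 : c < 22
  · exact allFrom_spec _ _ _ witnesses4 c (by omega) (by omega)
  by_cases c5 : c < 27
  · exact allFrom_spec _ _ _ witnesses5 c (by omega) (by omega)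
  omega

theorem scanB_check : ∀ m < 31671, scanB m = true :=
  of_parts scanB_0 scanB_1 scanB_2 scanB_3 scanB_4 scanB_5

theorem stage1_check : ∀ m < 31671, scan1 m = true :=
  of_parts scan1_0 scan1_1 scan1_2 scan1_3 scan1_4 scan1_5

theorem stage2_check : ∀ m < 31671, scan2 m = true :=
  of_parts scan2_0 scan2_1 scan2_2 scan2_3 scan2_4 scan2_5

theorem words_check : (Data.fixW.all lt10 && Data.stage1W.all lt10 &&
    (Data.fixW.map (fun w => act w 0) == [0, 1, 7999] ++ orbY 13 (rp 0)) &&
    (Data.stage1W.map (fun w => act w 0) == Data.stage1) &&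
    Data.genPt.all (fun p => ([0, 1, 7999] ++ Data.stage1 ++ [8000]).contains p)) = true := by
  decide +kernel

end CfsgLib.Fi23Out54
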