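import Cfsg.Agent.Fi23Out54.Scan
import Cfsg.Agent.Fi23Out54.WitnessChecks
import Mathlib.GroupTheory.Sylow

/-!
The element `Y` of order thirteen fixes three points, and its centraliser fixing all three is
`⟨Y⟩`; hence an involution commuting with an element of order thirteen is the transposition of a
point.
-/

set_option autoImplicit false
set_option maxRecDepth 100000

namespace CfsgLib.Fi23Out54

open CfsgLib.CosetEnum CfsgLib.CosetEnum.Fi23

/-- the point of a word -/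
noncomputable def pw (w : List ℕ) : Pt := pi (gword g10 w)⁻¹ P0

theorem pw_val {w : List ℕ} (hw : ∀ x ∈ w, x < 10) : ((pw w : Pt) : ℕ) = act w 0 := by
  rw [pw, act_eq w hw, pt_val]

theorem adjW_pw {w : List ℕ} (hw : ∀ x ∈ w, x < 10) (k : Pt) :
    adjW w k = true ↔ Adj (pw w) k := adjW_iff hw (pw_val hw).symm k

/-! ### The element of order thirteen -/

theorem y_facts : lt10 Data.yWord = true ∧ (∀ i ∈ basePts, iterY 13 i = i) ∧ stepY 0 = 0 ∧
    stepY 1 = 1 ∧ stepY 7999 = 7999 ∧ lt10 w1 = true ∧ act w1 0 = 1 ∧ lt10 w2 = true ∧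
    act w2 0 = 7999 ∧ adjW w1 7999 = false ∧ Tab.labH 7999 = 1 := by
  have h := y_check
  simp only [Bool.and_eq_true, Bool.not_eq_true', List.all_eq_true] at h
  obtain ⟨⟨⟨⟨⟨⟨⟨⟨⟨⟨h0, h1⟩, h2⟩, h3⟩, h4⟩, h5⟩, h6⟩, h7⟩, h8⟩, h9⟩, h10⟩ := h
  exact ⟨h0, fun i hi => Nat.eq_of_beq_eq_true (h1 i hi), Nat.eq_of_beq_eq_true h2,
    Nat.eq_of_beq_eq_true h3, Nat.eq_of_beq_eq_true h4, h5, Nat.eq_of_beq_eq_true h6, h7,
    Nat.eq_of_beq_eq_true h8, h9, Nat.eq_of_beq_eq_true h10⟩

/-- the element of order thirteen -/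
noncomputable def Y : Cfsg.Spor.Fi23 := (gword g10 Data.yWord)⁻¹

theorem pi_Y (k : Pt) : ((pi Y k : Pt) : ℕ) = stepY k := act_eq _ (of_lt10 y_facts.1) k

theorem pi_Y_pow (j : ℕ) (k : Pt) : ((pi (Y ^ j) k : Pt) : ℕ) = iterY j k := by
  induction j generalizing k with
  | zero => rw [pow_zero, map_one, Equiv.Perm.one_apply]; rfl
  | succ j ih =>
    rw [pow_succ, map_mul, Equiv.Perm.mul_apply, ih, pi_Y]
    rfl

theorem Y_pow_13 : Y ^ 13 = 1 := eq_one_of_fix fun p hp => Fin.ext (by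
  rw [pi_Y_pow]; exact y_facts.2.1 p hp)

/-- the three fixed points -/
abbrev Q1 : Pt := pt 1

/-- the three fixed points -/
abbrev Q2 : Pt := pt 7999

theorem pi_Y_zero : pi Y P0 = P0 := Fin.ext (by rw [pi_Y, pt_val]; exact y_facts.2.2.1)

theorem pi_Y_Q1 : pi Y Q1 = Q1 := Fin.ext (by rw [pi_Y, pt_val]; exact y_facts.2.2.2.1)

theorem pi_Y_Q2 : pi Y Q2 = Q2 := Fin.ext (by rw [pi_Y, pt_val]; exact y_facts.2.2.2.2.1)

theorem fix_Y {k : Pt} (h : pi Y k = k) : k = P0 ∨ k = Q1 ∨ k = Q2 := by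
  have hc := y_fix k k.2
  rw [yFixAt] at hc
  simp only [Bool.or_eq_true, Bool.not_eq_true'] at hc
  rcases hc with ((h0 | h0) | h0) | h0
  · exact Or.inl (Fin.ext (Nat.eq_of_beq_eq_true h0))
  · exact Or.inr (Or.inl (Fin.ext (Nat.eq_of_beq_eq_true h0)))
  · exact Or.inr (Or.inr (Fin.ext (Nat.eq_of_beq_eq_true h0)))
  · have e : stepY k = k := by rw [← pi_Y, h]
    rw [e, Nat.beq_refl] at h0
    exact Bool.noConfusion h0

theorem Y_ne_one : Y ≠ 1 := by
  intro h
  have hk : pi Y (pt 2) = pt 2 := by rw [h, map_one, Equiv.Perm.one_apply]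
  rcases fix_Y hk with e | e | e <;>
    exact absurd (congrArg Fin.val e) (by rw [pt_val, pt_val]; norm_num)

theorem orderOf_Y : orderOf Y = 13 :=
  haveI : Fact (Nat.Prime 13) := ⟨by norm_num⟩
  orderOf_eq_prime Y_pow_13 Y_ne_one

theorem pw_w1 : pw w1 = Q1 :=
  Fin.ext (by rw [pw_val (of_lt10 y_facts.2.2.2.2.2.1), pt_val, y_facts.2.2.2.2.2.2.1])

theorem pw_w2 : pw w2 = Q2 :=
  Fin.ext (by
    rw [pw_val (of_lt10 y_facts.2.2.2.2.2.2.2.1), pt_val, y_facts.2.2.2.2.2.2.2.2.1])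

theorem adjW_w1 (k : Pt) : adjW w1 k = true ↔ Adj Q1 k := by
  rw [← pw_w1]; exact adjW_pw (of_lt10 y_facts.2.2.2.2.2.1) k

theorem adjW_w2 (k : Pt) : adjW w2 k = true ↔ Adj Q2 k := by
  rw [← pw_w2]; exact adjW_pw (of_lt10 y_facts.2.2.2.2.2.2.2.1) k

theorem lab_beq (k : ℕ) : Nat.beq (Tab.labH k) 2 = true ↔ Tab.labH k = 2 :=
  ⟨Nat.eq_of_beq_eq_true, fun h => by rw [h]; rfl⟩

theorem inA_iff (k : Pt) : inA k = true ↔ Adj P0 k ∧ Adj Q1 k ∧ Adj Q2 k := by
  rw [inA, Bool.and_eq_true, Bool.and_eq_true, adjW_w1, adjW_w2, lab_beq, adj_zero, and_assoc]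

theorem inB_iff (k : Pt) : inB k = true ↔ Adj P0 k ∧ ¬ Adj Q1 k ∧ ¬ Adj Q2 k := by
  rw [inB, Bool.and_eq_true, Bool.and_eq_true, ← adjW_w1, ← adjW_w2, lab_beq, adj_zero, and_assoc,
    Bool.not_eq_true', Bool.not_eq_true', Bool.not_eq_true, Bool.not_eq_true]

/-- fixing the three points -/
def Fix3 (x : Cfsg.Spor.Fi23) : Prop := pi x P0 = P0 ∧ pi x Q1 = Q1 ∧ pi x Q2 = Q2

theorem adj_fix {x : Cfsg.Spor.Fi23} {p : Pt} (h : pi x p = p) (k : Pt) :
    Adj p (pi x k) ↔ Adj p k := by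
  nth_rewrite 1 [← h]
  exact adj_conj x p k

theorem inA_pi {x : Cfsg.Spor.Fi23} (hx : Fix3 x) (k : Pt) : inA (pi x k : Pt) = inA k := by
  rw [Bool.eq_iff_iff, inA_iff, inA_iff, adj_fix hx.1, adj_fix hx.2.1, adj_fix hx.2.2]

theorem inB_pi {x : Cfsg.Spor.Fi23} (hx : Fix3 x) (k : Pt) : inB (pi x k : Pt) = inB k := by
  rw [Bool.eq_iff_iff, inB_iff, inB_iff, adj_fix hx.1, adj_fix hx.2.1, adj_fix hx.2.2]

/-! ### The orbits on the common neighbours -/

/-- a representative -/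
noncomputable def cp (c : ℕ) : Pt := pw (rW c)

theorem cyc_spec {c : ℕ} (hc : c < 27) :
    lt10 (rW c) = true ∧ ((cp c : Pt) : ℕ) = rp c ∧ cy c = orbY 13 (rp c) := by
  have h := cyc_check
  simp only [Bool.and_eq_true, Model.allBelow_iff] at h
  obtain ⟨⟨h1, h2⟩, h3⟩ := h.1.1 c hc
  exact ⟨h1, by rw [cp, pw_val (of_lt10 h1)]; exact Nat.eq_of_beq_eq_true h2, beq_iff_eq.1 h3⟩

theorem inA_cp0 : inA (cp 0 : Pt) = true := by
  have h := cyc_check
  simp only [Bool.and_eq_true] at h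
  rw [(cyc_spec (by norm_num : (0 : ℕ) < 27)).2.1]
  exact h.2

theorem mem_orbY : ∀ (n k m : ℕ), m ∈ orbY n k → ∃ j < n, iterY j k = m := by
  intro n
  induction n with
  | zero => intro k m h; simp [orbY] at h
  | succ n ih =>
    intro k m h
    rw [orbY, List.mem_cons] at h
    rcases h with rfl | h
    · exact ⟨0, by omega, rfl⟩
    · obtain ⟨j, hj, e⟩ := ih _ _ h
      exact ⟨j + 1, by omega, e⟩

theorem mem_A {k : Pt} (h : inA k = true) :
    ∃ c j, c < 27 ∧ k = pi (Y ^ j) (cp c) := by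
  have hc := A_complete k k.2
  rw [aAt] at hc
  rw [h, Bool.not_true, Bool.false_or, List.contains_iff_mem, List.mem_flatten] at hc
  obtain ⟨l, hl, hk⟩ := hc
  obtain ⟨c, hc, rfl⟩ := List.mem_iff_getElem.1 hl
  have hlen : Data.cyc.length = 27 := by
    have h := cyc_check
    simp only [Bool.and_eq_true] at h
    exact Nat.eq_of_beq_eq_true h.1.2
  obtain ⟨-, h2, h3⟩ := cyc_spec (c := c) (by omega)
  rw [show Data.cyc[c] = cy c from (List.getD_eq_getElem _ _ hc).symm, h3] at hk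
  obtain ⟨j, -, e⟩ := mem_orbY _ _ _ hk
  exact ⟨c, j, by omega, Fin.ext (by rw [pi_Y_pow, h2, e])⟩

theorem differs_false {x : Cfsg.Spor.Fi23} (hx : Commute x Y) {c : ℕ} (hc : c < 27)
    (hxp : pi x (cp 0) = cp c) : ∀ (n : ℕ) (k : Pt), differs (rW c) n k (pi x k : Pt) = false := by
  intro n
  induction n with
  | zero => intro k; rfl
  | succ n ih =>
    intro k
    have e : pi Y (pi x k) = pi x (pi Y k) := by
      rw [← Equiv.Perm.mul_apply, ← map_mul, ← hx.eq, map_mul, Equiv.Perm.mul_apply]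
    rw [differs, ← pi_Y, ← pi_Y, e, ih, Bool.or_false, Bool.not_eq_false', beq_iff_eq,
      Bool.eq_iff_iff, adjW_pw (of_lt10 (cyc_spec (by norm_num : (0 : ℕ) < 27)).1),
      adjW_pw (of_lt10 (cyc_spec hc).1)]
    show Adj (cp 0) k ↔ Adj (cp c) (pi x k)
    rw [← hxp, adj_conj]

theorem rep_unique {x : Cfsg.Spor.Fi23} (hx : Commute x Y) (h3 : Fix3 x) {c : ℕ} (hc : c < 27)
    (hxp : pi x (cp 0) = cp c) : c = 0 := by
  by_contra hc0
  have hw : witOK c = true := witnesses c (by omega) hc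
  unfold witOK at hw
  rw [Bool.and_eq_true] at hw
  generalize Data.wit.getD c (0, 0) = p at hw
  obtain ⟨t, k⟩ := p
  obtain ⟨hk, hw⟩ := hw
  simp only [Nat.blt, Nat.ble_eq] at hk
  have hd := differs_false hx hc hxp 13 (pt k hk)
  rw [pt_val] at hd
  have hA := inA_pi h3 (pt k hk)
  have hB := inB_pi h3 (pt k hk)
  rw [pt_val] at hA hB
  rcases Bool.eq_false_or_eq_true (Nat.beq t 0) with ht | ht <;>
    simp only [ht, cond_true, cond_false, Bool.and_eq_true] at hw
  · rw [hw.1] at hA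
    have hm := A_complete (pi x (pt k hk) : Pt) (Fin.is_lt _)
    rw [aAt] at hm
    rw [hA, Bool.not_true, Bool.false_or, List.contains_iff_mem] at hm
    rw [List.all_eq_true.1 hw.2 _ hm] at hd
    exact Bool.noConfusion hd
  · obtain rfl : c = 16 := Nat.eq_of_beq_eq_true hw.1.1
    obtain rfl : k = 77 := Nat.eq_of_beq_eq_true hw.1.2
    rw [hw.2] at hB
    have hm := scanB_check (pi x (pt 77 hk) : Pt) (Fin.is_lt _)
    rw [scanB, hB, hd] at hm
    simp at hm

/-! ### The letters as transpositions -/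

/-- the point of a letter -/
noncomputable def gpt (x : ℕ) : Pt := pw (gW x)

theorem gpt_val {x : ℕ} (hx : x < 10) : ((gpt x : Pt) : ℕ) = gP x := by
  have h := (Model.allBelow_iff _ _).1 gen_check x hx
  simp only [Bool.and_eq_true] at h
  rw [gpt, pw_val (of_lt10 h.1.1.1)]
  exact Nat.eq_of_beq_eq_true h.1.1.2

theorem gen_tran {x : ℕ} (hx : x < 10) : gen x = tran (gpt x) := by
  have h := (Model.allBelow_iff _ _).1 gen_check x hx
  simp only [Bool.and_eq_true] at h
  have hw := of_lt10 h.1.1.1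
  have e := gword_eq_of_base (v := (gW x).reverse ++ zW ++ gW x) (w := [x])
    (fun y hy => by
      rcases List.mem_append.1 hy with hy | hy
      · exact (List.mem_append.1 hy).elim (fun hy => hw y (List.mem_reverse.1 hy)) (zW_lt10 y)
      · exact hw y hy)
    (fun y hy => by rw [List.mem_singleton.1 hy]; exact hx) h.2
  rw [gword_app, gword_app, gword_reverse, CfsgLib.CosetEnum.Fi23.gword_one,
    show g10 x = gen x from letterVal_lt gen hx] at e
  rw [← e, gpt, pw, tran_eq (g := (gword g10 (gW x))⁻¹) rfl, inv_inv]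
  rfl

theorem stage_fixed {x : Cfsg.Spor.Fi23} {F : List (List ℕ)} (hF : ∀ w ∈ F, lt10 w = true)
    (hfix : ∀ w ∈ F, pi x (pw w) = pw w) (p : Pt)
    (h : ∀ m : ℕ, m < 31671 → m = p ∨ sameKey F p m = false) : pi x p = p := by
  rcases h (pi x p : Pt) (Fin.is_lt _) with e | e
  · exact Fin.ext e
  · exfalso
    have hs : sameKey F p (pi x p : Pt) = true := by
      refine List.all_eq_true.2 fun w hw => beq_iff_eq.2 (Bool.eq_iff_iff.2 ?_)
      rw [adjW_pw (of_lt10 (hF w hw)), adjW_pw (of_lt10 (hF w hw)), adj_fix (hfix w hw)]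
    rw [hs] at e
    exact Bool.noConfusion e

theorem genpts_fixed {x : Cfsg.Spor.Fi23} (hx : Commute x Y) (h3 : Fix3 x)
    (hp : pi x (cp 0) = cp 0) {i : ℕ} (hi : i < 10) : pi x (gpt i) = gpt i := by
  have hc := words_check
  simp only [Bool.and_eq_true, List.all_eq_true, beq_iff_eq] at hc
  obtain ⟨⟨⟨⟨hF, hS⟩, hFm⟩, hSm⟩, hG⟩ := hc
  have hfix : ∀ w ∈ Data.fixW, pi x (pw w) = pw w := by
    intro w hw
    have hm : act w 0 ∈ [0, 1, 7999] ++ orbY 13 (rp 0) :=
      hFm ▸ List.mem_map.2 ⟨w, hw, rfl⟩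
    have hv := pw_val (of_lt10 (hF w hw))
    simp only [List.mem_append, List.mem_cons, List.not_mem_nil, or_false] at hm
    rcases hm with (e | e | e) | e
    · rw [show pw w = P0 from Fin.ext (hv.trans e)]; exact h3.1
    · rw [show pw w = Q1 from Fin.ext (hv.trans e)]; exact h3.2.1
    · rw [show pw w = Q2 from Fin.ext (hv.trans e)]; exact h3.2.2
    · obtain ⟨j, -, e'⟩ := mem_orbY _ _ _ e
      rw [show pw w = pi (Y ^ j) (cp 0) from Fin.ext (by
        rw [hv, pi_Y_pow, (cyc_spec (by norm_num : (0 : ℕ) < 27)).2.1, e']),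
        ← Equiv.Perm.mul_apply, ← map_mul, (hx.pow_right j).eq, map_mul, Equiv.Perm.mul_apply, hp]
  have hst : ∀ p : Pt, (p : ℕ) ∈ Data.stage1 → pi x p = p := by
    intro p hpm
    refine stage_fixed hF hfix p fun m hm => ?_
    have h := List.all_eq_true.1 (stage1_check m hm) p hpm
    simp only [Bool.or_eq_true, Bool.not_eq_true'] at h
    exact h.imp Nat.eq_of_beq_eq_true id
  have hfix2 : ∀ w ∈ Data.fixW ++ Data.stage1W, pi x (pw w) = pw w := by
    intro w hw
    rcases List.mem_append.1 hw with hw | hw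
    · exact hfix w hw
    · refine hst _ ?_
      rw [pw_val (of_lt10 (hS w hw))]
      exact hSm ▸ List.mem_map.2 ⟨w, hw, rfl⟩
  have hF2 : ∀ w ∈ Data.fixW ++ Data.stage1W, lt10 w = true := fun w hw =>
    (List.mem_append.1 hw).elim (hF w) (hS w)
  have hmem : gP i ∈ Data.genPt := by
    have : i < Data.genPt.length := lt_of_lt_of_eq hi (by rfl)
    rw [gP, List.getD_eq_getElem _ _ this]
    exact List.getElem_mem _
  have hg := hG _ hmem
  have hv := gpt_val hi
  simp only [List.contains_iff_mem, List.mem_append, List.mem_cons, List.not_mem_nil, or_false] at hg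
  rcases hg with ((e | e | e) | e) | e
  · rw [show gpt i = P0 from Fin.ext (hv.trans e)]; exact h3.1
  · rw [show gpt i = Q1 from Fin.ext (hv.trans e)]; exact h3.2.1
  · rw [show gpt i = Q2 from Fin.ext (hv.trans e)]; exact h3.2.2
  · exact hst _ (hv.symm ▸ e)
  · refine stage_fixed hF2 hfix2 _ fun m hm => ?_
    have h := stage2_check m hm
    rw [scan2] at h
    simp only [Bool.or_eq_true, Bool.not_eq_true'] at h
    rw [hv, e]
    exact h.imp Nat.eq_of_beq_eq_true id

theorem eq_one_of_fixes {x : Cfsg.Spor.Fi23} (hx : Commute x Y) (h3 : Fix3 x)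
    (hp : pi x (cp 0) = cp 0) : x = 1 := by
  have hall : ∀ g, Commute x g := by
    intro g
    have hle : (⊤ : Subgroup Cfsg.Spor.Fi23) ≤ Subgroup.centralizer {x} := by
      rw [← closure_g10, Subgroup.closure_le]
      rintro _ ⟨i, hi, rfl⟩
      rw [SetLike.mem_coe, Subgroup.mem_centralizer_iff]
      intro y hy
      rw [Set.mem_singleton_iff.1 hy, g10, letterVal_lt gen hi, gen_tran hi]
      exact (commute_tran_of_fix (genpts_fixed hx h3 hp hi)).eq
    exact Subgroup.mem_centralizer_iff.1 (hle (Subgroup.mem_top g)) x rfl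
  refine pi_injective (Equiv.ext fun k => ?_)
  obtain ⟨g, rfl⟩ := exists_move k
  rw [← Equiv.Perm.mul_apply, ← map_mul, (hall g).eq, map_mul, Equiv.Perm.mul_apply, h3.1, map_one,
    Equiv.Perm.one_apply]

theorem fix3_pow (j : ℕ) : Fix3 (Y ^ j) := by
  induction j with
  | zero => rw [pow_zero, Fix3, map_one]; exact ⟨rfl, rfl, rfl⟩
  | succ j ih =>
    rw [pow_succ, Fix3, map_mul]
    simp only [Equiv.Perm.mul_apply, pi_Y_zero, pi_Y_Q1, pi_Y_Q2]
    exact ih

theorem centralizer_Y {x : Cfsg.Spor.Fi23} (hx : Commute x Y) (h3 : Fix3 x) :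
    ∃ j : ℕ, x = Y ^ j := by
  obtain ⟨c, j, hc, e⟩ := mem_A (k := pi x (cp 0)) (by rw [inA_pi h3]; exact inA_cp0)
  have hx' : Commute ((Y ^ j)⁻¹ * x) Y := ((Commute.pow_self Y j).inv_left).mul_left hx
  have hf := fix3_pow j
  have h3' : Fix3 ((Y ^ j)⁻¹ * x) := by
    refine ⟨?_, ?_, ?_⟩ <;> rw [map_mul, map_inv, Equiv.Perm.mul_apply, Equiv.Perm.inv_eq_iff_eq]
    · rw [h3.1, hf.1]
    · rw [h3.2.1, hf.2.1]
    · rw [h3.2.2, hf.2.2]
  have hxp : pi ((Y ^ j)⁻¹ * x) (cp 0) = cp c := by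
    rw [map_mul, map_inv, Equiv.Perm.mul_apply, Equiv.Perm.inv_eq_iff_eq, e]
  obtain rfl := rep_unique hx' h3' hc hxp
  exact ⟨j, (inv_mul_eq_one.1 (eq_one_of_fixes hx' h3' hxp)).symm⟩

theorem eq_one_of_sq {x : Cfsg.Spor.Fi23} (hx : Commute x Y) (h3 : Fix3 x) (h2 : x * x = 1) :
    x = 1 := by
  obtain ⟨j, rfl⟩ := centralizer_Y hx h3
  have h13 : (Y ^ j) ^ 13 = 1 := by rw [← pow_mul, mul_comm, pow_mul, Y_pow_13, one_pow]
  rwa [show (13 : ℕ) = 2 * 6 + 1 by norm_num, pow_succ, pow_mul, pow_two, h2, one_pow, one_mul] at h13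

theorem fix_of_commute {x : Cfsg.Spor.Fi23} (hx : Commute x Y) {k : Pt} (hk : pi Y k = k) :
    pi Y (pi x k) = pi x k := by
  rw [← Equiv.Perm.mul_apply, ← map_mul, ← hx.eq, map_mul, Equiv.Perm.mul_apply, hk]

theorem not_adj_three : ¬ Adj P0 Q1 ∧ ¬ Adj P0 Q2 ∧ ¬ Adj Q1 Q2 := by
  have h1 : Tab.labH 1 = 1 := by decide +kernel
  refine ⟨?_, ?_, fun h => ?_⟩
  · rw [adj_zero, pt_val, h1]; norm_num
  · rw [adj_zero, pt_val, y_facts.2.2.2.2.2.2.2.2.2.2]; norm_num
  · have := (adjW_w1 Q2).2 h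
    rw [pt_val, y_facts.2.2.2.2.2.2.2.2.2.1] at this
    exact Bool.noConfusion this

theorem adj_symm {p q : Pt} (h : Adj p q) : Adj q p := by
  rcases (commute_tran_iff q p).1 ((commute_tran_iff p q).2 (Or.inr h)).symm with e | e
  · exact absurd (e ▸ h) (not_adj_self _)
  · exact e

/-- An involution swapping two of the three points is the transposition of the third. -/
theorem eq_tran_of_swap {x : Cfsg.Spor.Fi23} (hx : Commute x Y) (h2 : x * x = 1) {p q r : Pt}
    (hp : pi Y p = p) (hq : pi Y q = q) (hr : pi Y r = r)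
    (hcov : ∀ k, pi Y k = k → k = p ∨ k = q ∨ k = r)
    (hpq : p ≠ q) (hpr : p ≠ r) (hnq : ¬ Adj p q) (hnr : ¬ Adj p r)
    (xp : pi x p = p) (xq : pi x q = r) (xr : pi x r = q) : x = tran p := by
  have hY : Commute (tran p) Y := (commute_tran_of_fix hp).symm
  have tp : pi (tran p) p = p := (tran_fix_iff p p).2 (Or.inl rfl)
  have img : ∀ k k' : Pt, pi Y k = k → k ≠ p → ¬ Adj p k →
      (∀ m, m = p ∨ m = k ∨ m = k' ↔ m = p ∨ m = q ∨ m = r) → pi (tran p) k = k' := by
    intro k k' hk hkp hka hset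
    rcases (hset _).2 (hcov _ (fix_of_commute hY hk)) with e | e | e
    · exact absurd ((pi (tran p)).injective (e.trans tp.symm)) hkp
    · rcases (tran_fix_iff p k).1 e with e' | e'
      · exact absurd e' hkp
      · exact absurd e' hka
    · exact e
  have tq : pi (tran p) q = r := img q r hq hpq.symm hnq fun m => Iff.rfl
  have tr : pi (tran p) r = q := img r q hr hpr.symm hnr fun m => or_congr_right or_comm
  have h3 : pi (tran p * x) p = p ∧ pi (tran p * x) q = q ∧ pi (tran p * x) r = r := by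
    refine ⟨?_, ?_, ?_⟩ <;> rw [map_mul, Equiv.Perm.mul_apply]
    · rw [xp, tp]
    · rw [xq, tr]
    · rw [xr, tq]
  have hfix : Fix3 (tran p * x) := by
    have key : ∀ k, pi Y k = k → pi (tran p * x) k = k := fun k hk => by
      rcases hcov k hk with rfl | rfl | rfl
      exacts [h3.1, h3.2.1, h3.2.2]
    exact ⟨key _ pi_Y_zero, key _ pi_Y_Q1, key _ pi_Y_Q2⟩
  have hxt : Commute x (tran p) := commute_tran_of_fix xp
  have h1 := eq_one_of_sq (hY.mul_left hx) hfix (by
    rw [mul_assoc, ← mul_assoc x, hxt.eq, mul_assoc, h2, mul_one, tran_sq])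
  rw [mul_eq_one_iff_eq_inv] at h1
  rw [← inv_eq_of_mul_eq_one_right h2, ← h1]

theorem involution_commuting_Y {x : Cfsg.Spor.Fi23} (hx : Commute x Y) (h2 : x * x = 1)
    (h1 : x ≠ 1) : ∃ p, x = tran p := by
  have inv : ∀ k, pi x (pi x k) = k := fun k => by
    rw [← Equiv.Perm.mul_apply, ← map_mul, h2, map_one, Equiv.Perm.one_apply]
  have n01 : (P0 : Pt) ≠ Q1 := fun e => absurd (congrArg Fin.val e) (by rw [pt_val, pt_val]; norm_num)
  have n02 : (P0 : Pt) ≠ Q2 := fun e => absurd (congrArg Fin.val e) (by rw [pt_val, pt_val]; norm_num)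
  have n12 : (Q1 : Pt) ≠ Q2 := fun e => absurd (congrArg Fin.val e) (by rw [pt_val, pt_val]; norm_num)
  obtain ⟨a01, a02, a12⟩ := not_adj_three
  rcases fix_Y (fix_of_commute hx pi_Y_zero) with e0 | e0 | e0
  · rcases fix_Y (fix_of_commute hx pi_Y_Q1) with e1 | e1 | e1
    · exact absurd ((pi x).injective (e0.trans e1.symm)) n01
    · rcases fix_Y (fix_of_commute hx pi_Y_Q2) with e2 | e2 | e2
      · exact absurd ((pi x).injective (e0.trans e2.symm)) n02
      · exact absurd ((pi x).injective (e1.trans e2.symm)) n12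
      · exact absurd (eq_one_of_sq hx ⟨e0, e1, e2⟩ h2) h1
    · have e2 : pi x Q2 = Q1 := by rw [← e1]; exact inv _
      exact ⟨_, eq_tran_of_swap hx h2 pi_Y_zero pi_Y_Q1 pi_Y_Q2 (fun k => fix_Y) n01 n02 a01 a02
        e0 e1 e2⟩
  · have e1 : pi x Q1 = P0 := by rw [← e0]; exact inv _
    have e2 : pi x Q2 = Q2 := by
      rcases fix_Y (fix_of_commute hx pi_Y_Q2) with e | e | e
      · exact absurd ((pi x).injective (e1.trans e.symm)) n12
      · exact absurd ((pi x).injective (e0.trans e.symm)) n02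
      · exact e
    exact ⟨_, eq_tran_of_swap hx h2 pi_Y_Q2 pi_Y_zero pi_Y_Q1
      (fun k h => by rcases fix_Y h with h | h | h <;> simp [h])
      n02.symm n12.symm (fun h => a02 (adj_symm h)) (fun h => a12 (adj_symm h)) e2 e0 e1⟩
  · have e2 : pi x Q2 = P0 := by rw [← e0]; exact inv _
    have e1 : pi x Q1 = Q1 := by
      rcases fix_Y (fix_of_commute hx pi_Y_Q1) with e | e | e
      · exact absurd ((pi x).injective (e2.trans e.symm)) n12.symm
      · exact e
      · exact absurd ((pi x).injective (e0.trans e.symm)) n01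
    exact ⟨_, eq_tran_of_swap hx h2 pi_Y_Q1 pi_Y_zero pi_Y_Q2
      (fun k h => by rcases fix_Y h with h | h | h <;> simp [h])
      n01.symm n12 (fun h => a01 (adj_symm h)) a12 e1 e0 e2⟩

theorem not_dvd_check : ¬ 13 ∣ 314574651791769600 := by norm_num

/-- An involution commuting with an element of order thirteen is a transposition. -/
theorem exists_tran {x y : Cfsg.Spor.Fi23} (hy : orderOf y = 13) (hxy : Commute x y)
    (h2 : x * x = 1) (h1 : x ≠ 1) : ∃ p, x = tran p := by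
  haveI : Fact (Nat.Prime 13) := ⟨by norm_num⟩
  haveI := finite_fi23
  have hfac : (Nat.card Cfsg.Spor.Fi23).factorization 13 = 1 := by
    rw [card_fi23, show (4089470473293004800 : ℕ) = 13 * 314574651791769600 by norm_num,
      Nat.factorization_mul (by norm_num) (by norm_num), Finsupp.add_apply,
      Nat.Prime.factorization_self (by norm_num),
      Nat.factorization_eq_zero_of_not_dvd not_dvd_check]
  let P : Sylow 13 Cfsg.Spor.Fi23 := Sylow.ofCard (Subgroup.zpowers Y)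
    (by rw [Nat.card_zpowers, orderOf_Y, hfac, pow_one])
  let Q : Sylow 13 Cfsg.Spor.Fi23 := Sylow.ofCard (Subgroup.zpowers y)
    (by rw [Nat.card_zpowers, hy, hfac, pow_one])
  obtain ⟨g, hg⟩ := MulAction.exists_smul_eq Cfsg.Spor.Fi23 Q P
  have hmem : MulAut.conj g y ∈ Subgroup.zpowers Y := by
    have h : MulAut.conj g • y ∈ ((g • Q : Sylow 13 Cfsg.Spor.Fi23) : Subgroup Cfsg.Spor.Fi23) := by
      rw [Sylow.coe_subgroup_smul]
      exact Subgroup.smul_mem_pointwise_smul _ _ _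
        (by simp only [Q, Sylow.coe_ofCard]; exact Subgroup.mem_zpowers y)
    rw [hg] at h
    simpa [P] using h
  have ho : orderOf (MulAut.conj g y) = 13 := by rw [MulEquiv.orderOf_eq, hy]
  have hY : Y ∈ Subgroup.zpowers (MulAut.conj g y) := by
    have e : Subgroup.zpowers (MulAut.conj g y) = Subgroup.zpowers Y :=
      Subgroup.eq_of_le_of_card_ge (Subgroup.zpowers_le.2 hmem)
        (le_of_eq (by rw [Nat.card_zpowers, Nat.card_zpowers, ho, orderOf_Y]))
    rw [e]
    exact Subgroup.mem_zpowers Y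
  obtain ⟨n, hn⟩ := Subgroup.mem_zpowers_iff.1 hY
  have hc : Commute (MulAut.conj g x) Y := by
    rw [← hn]
    exact (hxy.map (MulAut.conj g).toMonoidHom).zpow_right n
  obtain ⟨p, hp⟩ := involution_commuting_Y hc (by rw [← map_mul, h2, map_one])
    (fun h => h1 ((map_eq_one_iff _ (MulAut.conj g).injective).1 h))
  refine ⟨pi g⁻¹ p, ?_⟩
  rw [← tran_conj, ← hp, MulAut.conj_apply]
  group

/-- The image of a transposition under an automorphism is a transposition. -/
theorem exists_aut_tran (α : MulAut Cfsg.Spor.Fi23) (p : Pt) : ∃ q, α (tran p) = tran q := by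
  obtain ⟨q, hq⟩ := exists_tran (x := α z0) (y := α Y) (by rw [MulEquiv.orderOf_eq, orderOf_Y])
    ((show Commute z0 Y from commute_of_mem ((mem_Hs_iff Y).2 pi_Y_zero)).map α.toMonoidHom)
    (by rw [← map_mul, z0_sq, map_one])
    (fun h => z0_ne ((map_eq_one_iff _ α.injective).1 h))
  refine ⟨pi (α (move p)) q, ?_⟩
  rw [← tran_conj, ← hq, tran, map_mul, map_mul, map_inv]

end CfsgLib.Fi23Out54
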