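import Cfsg.Agent.Fi23Out54.Trans
import Cfsg.Agent.Fi23Out54.Data

/-! Kernel checks: the element of order thirteen and the letters as transpositions. -/

set_option autoImplicit false
set_option maxRecDepth 100000
set_option Elab.async false

namespace CfsgLib.Fi23Out54

open CfsgLib.CosetEnum CfsgLib.CosetEnum.Fi23

/-- image under the element of order thirteen -/
noncomputable def stepY (k : ℕ) : ℕ := act Data.yWord k

/-- repeated image -/
noncomputable def iterY : ℕ → ℕ → ℕ
  | 0, k => k
  | j + 1, k => iterY j (stepY k)

/-- an orbit as a list -/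
noncomputable def orbY : ℕ → ℕ → List ℕ
  | 0, _ => []
  | n + 1, k => k :: orbY n (stepY k)

/-- word of the point 1 -/
def w1 : List ℕ := Data.fixW.getD 1 []

/-- word of the point 7999 -/
def w2 : List ℕ := Data.fixW.getD 2 []

/-- word of a cycle representative -/
def rW (c : ℕ) : List ℕ := Data.repW.getD c []

/-- a cycle -/
def cy (c : ℕ) : List ℕ := Data.cyc.getD c []

/-- a cycle representative -/
def rp (c : ℕ) : ℕ := (cy c).headD 0

/-- adjacent to the three fixed points -/
noncomputable def inA (m : ℕ) : Bool := Nat.beq (Tab.labH m) 2 && adjW w1 m && adjW w2 m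

/-- adjacent to the first fixed point only -/
noncomputable def inB (m : ℕ) : Bool := Nat.beq (Tab.labH m) 2 && !(adjW w1 m) && !(adjW w2 m)

theorem y_check : (lt10 Data.yWord && basePts.all (fun i => Nat.beq (iterY 13 i) i) &&
    Nat.beq (stepY 0) 0 && Nat.beq (stepY 1) 1 && Nat.beq (stepY 7999) 7999 &&
    lt10 w1 && Nat.beq (act w1 0) 1 && lt10 w2 && Nat.beq (act w2 0) 7999 &&
    !(adjW w1 7999) && Nat.beq (Tab.labH 7999) 1) = true := by
  decide +kernel

theorem cyc_check : (allBelow (fun c => lt10 (rW c) && Nat.beq (act (rW c) 0) (rp c) &&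
    (cy c == orbY 13 (rp c))) 27 && Nat.beq Data.cyc.length 27 && inA (rp 0)) = true := by
  decide +kernel

/-- the point is one of the three, or moved -/
noncomputable def yFixAt (k : ℕ) : Bool :=
  Nat.beq k 0 || Nat.beq k 1 || Nat.beq k 7999 || !(Nat.beq (stepY k) k)

/-- a common neighbour of the three is in the list -/
noncomputable def aAt (m : ℕ) : Bool := !(inA m) || Data.cyc.flatten.contains m

theorem allFrom_spec (f : ℕ → Bool) (a : ℕ) :
    ∀ n, allFrom f a n = true → ∀ j, a ≤ j → j < a + n → f j = true := by
  intro n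
  induction n with
  | zero => intro _ j h1 h2; omega
  | succ n ih =>
    intro h j h1 h2
    rw [allFrom, Bool.and_eq_true] at h
    by_cases e : j = a + n
    · rw [e]; exact h.1
    · exact ih h.2 j h1 (by omega)

theorem of_parts {f : ℕ → Bool} (h0 : allFrom f 0 5280 = true) (h1 : allFrom f 5280 5280 = true)
    (h2 : allFrom f 10560 5280 = true) (h3 : allFrom f 15840 5280 = true)
    (h4 : allFrom f 21120 5280 = true) (h5 : allFrom f 26400 5271 = true)
    (m : ℕ) (hm : m < 31671) : f m = true := by
  by_cases c1 : m < 5280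
  · exact allFrom_spec f _ _ h0 m (by omega) (by omega)
  by_cases c2 : m < 10560
  · exact allFrom_spec f _ _ h1 m (by omega) (by omega)
  by_cases c3 : m < 15840
  · exact allFrom_spec f _ _ h2 m (by omega) (by omega)
  by_cases c4 : m < 21120
  · exact allFrom_spec f _ _ h3 m (by omega) (by omega)
  by_cases c5 : m < 26400
  · exact allFrom_spec f _ _ h4 m (by omega) (by omega)
  exact allFrom_spec f _ _ h5 m (by omega) (by omega)

/-- the letter's word -/
def gW (x : ℕ) : List ℕ := Data.genW.getD x []

/-- the letter's point -/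
def gP (x : ℕ) : ℕ := Data.genPt.getD x 0

theorem gen_check : (allBelow (fun x => lt10 (gW x) && Nat.beq (act (gW x) 0) (gP x) &&
    (gP x).blt 31671 && basePts.all (fun i =>
      Nat.beq (act ((gW x).reverse ++ zW ++ gW x) i) (act [x] i))) 10) = true := by
  decide +kernel

end CfsgLib.Fi23Out54
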