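import Cfsg.Agent.Fi23Out54.Scan.YFix0
import Cfsg.Agent.Fi23Out54.Scan.YFix1
import Cfsg.Agent.Fi23Out54.Scan.AList

/-! The scans of the points, put together. -/

set_option autoImplicit false

namespace CfsgLib.Fi23Out54

theorem y_fix : ∀ k < 31671, yFixAt k = true :=
  of_parts yFixAt_0 yFixAt_1 yFixAt_2 yFixAt_3 yFixAt_4 yFixAt_5

theorem A_complete : ∀ m < 31671, aAt m = true :=
  of_parts aAt_0 aAt_1 aAt_2 aAt_3 aAt_4 aAt_5

end CfsgLib.Fi23Out54
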